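import Cfsg.Agent.Lib.TA.A0
import Cfsg.Agent.S3225

/-!
# S3490, part A: a normal `E₃₂` with cyclic quotient, case (γ)
-/

set_option autoImplicit false

namespace Cfsg.Lib.TA

open Subgroup Cfsg.Lib.BG Cfsg.Lib.FGS Cfsg.Lib.SR Cfsg.Lib.N8
open scoped commutatorElement Cfsg.Lib.Transfer

variable {G : Type*} [Group G] [Finite G] {A B C E M T : Subgroup G} {a g s t : G}

omit [Finite G] in
theorem ker_map {V W : Type*} [Group V] [Group W] (f : V →* W) (K : Subgroup V) :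
    Nat.card ↥(f.ker ⊓ K) * Nat.card (K.map f) = Nat.card K := by
  rw [← relIndex_ker, ← inf_relIndex_right]
  exact Transfer.card_mul_relIndex inf_le_right

omit [Finite G] in
/-- a nilpotent endomorphism of type `(4, 1)`: the kernel meets `im N²` inside `im N³` -/
theorem nil4 {V : Type*} [Group V] [Finite V] (N : V →* V) (c32 : Nat.card V = 32) (k8 : Nat.card (N.comp N).ker = 8)
    (h4 : ∀ v, N (N (N (N v))) = 1) {c : V} (hz : N (N (N c)) = 1) : ∃ a, N (N (N a)) = N (N c) := by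
  have e0 := ker_map (N.comp N) ⊤
  rw [inf_top_eq, k8, card_top, c32, ← map_map] at e0
  have e1 := ker_map N (map N ⊤)
  have e2 := ker_map N (map N (map N ⊤))
  have d4 : Nat.card (map N (map N ⊤)) = 4 := by omega
  have l3 : map N (map N (map N ⊤)) ≤ N.ker ⊓ map N (map N ⊤) := by
    rintro _ ⟨_, ⟨_, ⟨v, -, rfl⟩, rfl⟩, rfl⟩
    exact ⟨h4 v, _, ⟨_, trivial, rfl⟩, rfl⟩
  by_cases e : Nat.card ↥(N.ker ⊓ map N (map N ⊤)) ≤ Nat.card (map N (map N (map N ⊤)))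
  · obtain ⟨_, ⟨_, ⟨a, -, rfl⟩, rfl⟩, e⟩ : N (N c) ∈ map N (map N (map N ⊤)) :=
      eq_of_le_of_card_ge l3 e ▸ ⟨hz, _, ⟨_, trivial, rfl⟩, rfl⟩
    exact ⟨a, e⟩
  rw [d4] at e1 e2
  have p3 : 0 < Nat.card (map N (map N (map N ⊤))) := Nat.card_pos
  have i1 : Nat.card (map N (map N (map N ⊤))) = 1 := by
    by_contra hn
    nlinarith [(by omega : 2 ≤ Nat.card (map N (map N (map N ⊤))))]
  have z3 : ∀ v, N (N (N v)) = 1 := fun v =>
    mem_bot.1 (card_eq_one.1 i1 ▸ ⟨_, ⟨_, ⟨_, trivial, rfl⟩, rfl⟩, rfl⟩)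
  have l1 : map N ⊤ ≤ (N.comp N).ker := by
    rintro _ ⟨v, -, rfl⟩
    exact z3 v
  have l2 : map N (map N ⊤) ≤ N.ker ⊓ map N ⊤ := by
    rintro _ ⟨_, ⟨v, -, rfl⟩, rfl⟩
    exact ⟨z3 v, _, trivial, rfl⟩
  have := card_le_of_le l1
  have := card_le_of_le l2
  omega

omit [Finite G] in
/-- `a ↦ ⁅g, a⁆` on an elementary abelian group -/
def dl (e : El A) (hg : g ∈ 𝐍(A)) : A →* A :=
  MonoidHom.mk' (fun a => ⟨cj g a * a, A.mul_mem (cj_mem hg a.2) a.2⟩) fun a b => Subtype.ext <| by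
    simp only [coe_mul, map_mul, mul_assoc]
    rw [← mul_assoc (cj g b.1), sq_comm e (cj_mem hg b.2) a.2, mul_assoc]

omit [Finite G] in
theorem dl_val (e : El A) (hg : g ∈ 𝐍(A)) (a : A) : (dl e hg a).1 = cj g a * a := rfl

omit [Finite G] in
theorem dl_dl (e : El A) (hg : g ∈ 𝐍(A)) (a : A) : dl e hg (dl e hg a) = dl e (mul_mem hg hg) a := Subtype.ext <| by
  rw [dl_val, dl_val, dl_val, map_mul, cj_cj, mul_assoc, ← mul_assoc (cj g a.1), e _ (cj_mem hg a.2), one_mul]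

omit [Finite G] in
theorem dl_one (e : El A) (hg : g ∈ 𝐍(A)) (a : A) : dl e hg a = 1 ↔ a.1 ∈ 𝐂[g] := by
  rw [Subtype.ext_iff, dl_val, coe_one, mul_eq_one_iff_eq_inv, inv_self (e _ a.2), cj_fix]

omit [Finite G] in
theorem dl_ker (e : El A) (hg : g ∈ 𝐍(A)) : Nat.card (dl e hg).ker = Nat.card ↥(A ⊓ 𝐂[g]) := by
  rw [show (dl e hg).ker = 𝐂[g].subgroupOf A from Subgroup.ext (dl_one e hg), inf_comm, ← subgroupOf_map_subtype,
    card_map_of_injective Subtype.val_injective]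

omit [Finite G] in
theorem dl_cm (e : El A) (hg : g ∈ 𝐍(A)) (a : A) : (dl e hg a).1 = ⁅a.1, g⁆ := by
  rw [dl_val, sq_comm e (cj_mem hg a.2) a.2, cdef, cj_def, inv_self (e _ a.2)]
  simp only [mul_assoc]

omit [Finite G] in
theorem El.cent (e : El A) (ha : a ∈ A) : A ≤ 𝐂[a] := fun _ hx => mem_centralizer_singleton_iff.2 (sq_comm e hx ha)

omit [Finite G] in
theorem El.conj (e : El A) (g : G) : El (g ⋆ A) := by
  rintro _ ⟨x, hx, rfl⟩
  rw [← map_mul, e x hx, map_one]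
/-- `A ≅ E₃₂` is normal in `T`; then `T ⧸ A = ⟨s⟩ ≅ C₄` (`s² ∉ A` as `s⁴ ≠ 1`) -/
structure Ga (T A : Subgroup G) (s : G) : Prop where
  le : A ≤ T
  el : El A
  card : Nat.card A = 32
  norm : T ≤ 𝐍(A)

namespace Ga

variable (k : Ga T A s) (h : Ax T s)
include k h

theorem bA : s * s ∉ A := fun e => h.s4 (k.el _ e)

/-- `T ⧸ A` has order 4 and `s̄² ≠ 1`, so `s̄⁴ = 1` -/
theorem zA : s * s * (s * s) ∈ A := by
  have := normal_subgroupOf_of_le_normalizer k.norm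
  have e := Transfer.card_mul_relIndex k.le
  rw [k.card, h.card] at e
  have i := pow_index_mem (A.subgroupOf T) ⟨s, h.mem⟩
  rw [show (A.subgroupOf T).index = 4 by unfold relIndex at e; omega] at i
  exact p4 s ▸ i

omit [Finite G] in
theorem bN : s * s ∈ 𝐍(A) := k.norm (T.mul_mem h.mem h.mem)

theorem memM : t ∈ A ⊔ zpowers (s * s) ↔ t ∈ A ∨ t * (s * s)⁻¹ ∈ A := mem_sup_zp (k.bN h) (k.zA h)

omit [Finite G] in
theorem MT : A ⊔ zpowers (s * s) ≤ T := sup_le k.le (zpowers_le.2 (T.mul_mem h.mem h.mem))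

theorem sM : s ∉ A ⊔ zpowers (s * s) := fun e => k.bA h <| by
  rcases (k.memM h).1 e with e | e
  · exact A.mul_mem e e
  · simpa [mul_assoc] using A.inv_mem (A.mul_mem e e)

/-- `A` has index 2 in `M` -/
theorem ixA (ha : a ∈ A ⊔ zpowers (s * s)) (ht : t ∈ A ⊔ zpowers (s * s)) (a' : a ∉ A) (t' : t ∉ A) : a * t ∈ A := by
  have := A.mul_mem (A.mul_mem (((k.memM h).1 ha).resolve_left a') (cj_mem (k.bN h) (((k.memM h).1 ht).resolve_left t'))) (k.zA h)
  simpa [cj_def, mul_assoc] using this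

theorem sqA (ht : t ∈ A ⊔ zpowers (s * s)) : t * t ∈ A := by
  by_cases e : t ∈ A
  exacts [A.mul_mem e e, k.ixA h ht ht e e]

theorem cenM (ha : a ∈ A) (ht : t ∈ A ⊔ zpowers (s * s)) (t' : t ∉ A) (e : a ∈ 𝐂[t]) : a ∈ 𝐂(A ⊔ zpowers (s * s)) := by
  refine mem_centralizer_iff.2 fun m hm => ?_
  by_cases m' : m ∈ A
  · exact sq_comm k.el m' ha
  have := sq_comm k.el (k.ixA h hm (inv_mem ht) m' fun e => t' (inv_mem_iff.1 e)) ha
  rw [← inv_mul_cancel_right m t, mul_assoc _ t, ← mem_centralizer_singleton_iff.1 e, ← mul_assoc, this, mul_assoc]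

/-- `M = A ⊔ ⟨s²⟩` (`card_sup_zp`) -/
theorem cardM : Nat.card ↥(A ⊔ zpowers (s * s)) = 64 := by
  rw [card_sup_zp (k.bN h) (k.bA h) (k.zA h), k.card]

/-- for `t ∈ T ∖ M`, `t ∈ M s` (`h.ix`), and `t² ∈ A s²` as `A` is normal -/
theorem sq_out (ht : t ∈ T) (h1 : t ∉ A ⊔ zpowers (s * s)) : t * t ∉ A := fun e => k.bA h <| by
  have sN := k.norm h.mem
  rcases (k.memM h).1 (h.ix (k.MT h) (k.cardM h) ht (T.inv_mem h.mem) h1 fun e => k.sM h (inv_mem_iff.1 e)) with m | m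
  · simpa [cj_def, mul_assoc] using A.mul_mem (A.inv_mem (A.mul_mem m (cj_mem sN m))) e
  · have := A.mul_mem (A.inv_mem (A.mul_mem (A.mul_mem m (cj_mem (mul_mem sN (mul_mem sN sN)) m)) (k.zA h))) e
    simpa [cj_def, mul_assoc] using this

theorem inM (ht : t ∈ T) (e : t * t ∈ A) : t ∈ A ⊔ zpowers (s * s) := by_contra fun n => k.sq_out h ht n e

/-- Write `σ = cj s` on `A`, `N a = ⁅s, a⁆ = σ a · a` (an endomorphism of the elementary group `A`, `N² a = ⁅s², a⁆`, `N⁴ = 0` as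
`s⁴ ∈ A`), `z = s⁴ = N² c`.  `D = im N²` has order `32 / 8 = 4`.  If `N³ = 0`: `im N ≤ ker N²` has order `≤ 8`, but `N` maps `im N`
onto `D` with kernel `≥ D`, `|im N| ≥ 16`.  So `N` is a nonzero endomorphism of `D` with square zero, its kernel `∋ z` (`σ z = z ≠ 1`) and
image have order 2 and coincide: `z = N³ a`.  Then `(a s)⁴ = a · σ a · σ² a · σ³ a · s⁴ = N³ a · z = 1`. -/
theorem split (c8 : Nat.card ↥(A ⊓ 𝐂[s * s]) = 8) (hz : ∃ c ∈ A, ⁅c, s * s⁆ = s * s * (s * s)) :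
    ∃ a ∈ A, a * s * (a * s) * (a * s * (a * s)) = 1 := by
  obtain ⟨c, hc, e⟩ := hz
  have sN := k.norm h.mem
  have n2 := dl_dl k.el sN
  have zc : dl k.el sN (dl k.el sN ⟨c, hc⟩) = ⟨_, k.zA h⟩ := Subtype.ext (by rw [n2, dl_cm]; exact e)
  obtain ⟨a, ha⟩ := nil4 (dl k.el sN) k.card
    (by rw [show (dl k.el sN).comp (dl k.el sN) = dl k.el (k.bN h) from MonoidHom.ext n2, dl_ker, c8])
    (fun v => by rw [n2, n2, dl_dl, dl_one]; exact k.el.cent (k.zA h) v.2) (c := ⟨c, hc⟩)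
    (by rw [zc, dl_one]; exact mem_centralizer_singleton_iff.2 (by simp only [mul_assoc]))
  rw [zc, n2, Subtype.ext_iff, dl_val, dl_val] at ha
  refine ⟨a, a.2, ?_⟩
  have q := sq_comm k.el (cj_mem sN a.2) a.2
  calc _ = a * cj s a * cj (s * s) (a * cj s a) * (s * s * (s * s)) := by simp [cj_def, mul_assoc]
    _ = 1 := by
      rw [← q, sq_comm k.el (A.mul_mem (cj_mem sN a.2) a.2) (cj_mem (k.bN h) (A.mul_mem (cj_mem sN a.2) a.2)), ha]
      exact k.el _ (k.zA h)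

/-- `B ≤ M` (`sq_out`); if `B ≠ A` then `A ⊓ B` has order 16 and is centralized by an element `a s²` of `B ∖ A`. -/
theorem uniq (c8 : Nat.card ↥(A ⊓ 𝐂[s * s]) = 8) (hB : B ≤ T) (e : El B) (c : Nat.card B = 32) : B = A := by
  refine eq_of_le_of_card_ge (fun x hx => by_contra fun x' => ?_) (by rw [c, k.card])
  have BM : B ≤ A ⊔ zpowers (s * s) := fun y hy => k.inM h (hB hy) (e y hy ▸ A.one_mem)
  have i1 := Transfer.card_mul_relIndex (le_sup_left : A ≤ A ⊔ zpowers (s * s))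
  have i2 := Transfer.card_mul_relIndex (inf_le_right : A ⊓ B ≤ B)
  rw [k.cardM h, k.card] at i1
  rw [inf_relIndex_right, c] at i2
  have i3 := relIndex_le_of_le_right (H := A) BM (by omega)
  have i4 := card_le_of_le (show A ⊓ B ≤ A ⊓ 𝐂[s * s] from fun y hy => ⟨hy.1, mem_centralizer_singleton_iff.2
    (mem_centralizer_iff.1 (k.cenM h hy.1 (BM hx) x' (e.cent hx hy.2)) _ (mem_sup_right (mem_zpowers _))).symm⟩)
  nlinarith [(by omega : A.relIndex B ≤ 2)]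

/-- Case (γ).  Let `s' = a s` (`split`), of order 4, `t = s'²` an involution in `M ∖ A`, `E₀ = A ⊓ 𝐂[s²] = A ⊓ 𝐂[t]` (order 8),
`E = E₀ ⊔ ⟨t⟩` (elementary of order 16), `C = E₀ ⊔ ⟨s'⟩`.
(1) `S3225` with `n = 2`, `M`, `x = s'` (elements of `T ∖ M` have order `> 2` by `sq_out`; no subgroup of index 2 in the simple
group `G`): `cj g s' ∈ M`, so `u = cj g t` is a square of `M`, which lies in `A` (`(a s²)² = ⁅a, s²⁆ s⁴`).
(2) `A` and `g ⋆ C` are 2-subgroups of `𝐂[u]`: take a Sylow 2-subgroup `P ≥ A` of `𝐂[u]`, `c ∈ 𝐂[u]` with `c ⋆ g ⋆ C ≤ P`, and `l` with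
`l ⋆ P ≤ T`; `l ⋆ A = A` by `uniq`.  With `g' = l c g`: `cj g' t ∈ A`, `g' ⋆ C ≤ T`.
(3) For `x ∈ E`: `cj g' x ∈ T` is an involution or 1, so lies in `M`.  `cj g' s' ∈ T` has its square in `A`, so lies in `M`
(`sq_out`).  So `g' ⋆ C ≤ M`, `C' = C ⊓ g'⁻¹ ⋆ A` is elementary of index `≤ 2` in `C` (order 32), and `C' ≤ C ⊓ M = E`
(`sq_out`: involutions lie in `M`).  So `E = C' ≤ g'⁻¹ ⋆ A =: A'`, and `A' ≤ 𝐂(E)` has order 32.
(4) `T = A ⊔ ⟨s'⟩` normalizes `E` (`⁅a, t⁆ = a · cj t a ∈ E₀`).  Conjugate `A'` into `T` by an element of `𝐍(E)`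
(`Syl.exists_conj_le` in `𝐍(E)`); by `uniq` the image is `A`, so `A ≤ 𝐂(E) ≤ 𝐂[t]`, contradicting `|E₀| = 8`. -/
theorem gam (c8 : Nat.card ↥(A ⊓ 𝐂[s * s]) = 8) (hz : ∃ c ∈ A, ⁅c, s * s⁆ = s * s * (s * s)) : False := by
  obtain ⟨a, ha, e4⟩ := k.split h c8 hz
  generalize hr : a * s = r at e4
  have rT : r ∈ T := hr ▸ T.mul_mem (k.le ha) h.mem
  have rM : r ∉ A ⊔ zpowers (s * s) := fun e => k.sM h ((mul_mem_cancel_left (mem_sup_left ha)).1 (hr ▸ e))
  have tA := k.sq_out h rT rM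
  have tM := h.ixsq (k.MT h) (k.cardM h) rT
  have t1 : r * r ≠ 1 := fun e => tA (e ▸ A.one_mem)
  obtain ⟨S, hS⟩ := Syl.top_iff_sylow.1 h.syl
  obtain ⟨g, hg⟩ := Cfsg.Agent.S3225.result
    (even_iff_two_dvd.2 ((by rw [h.card]; decide : 2 ∣ Nat.card T).trans (card_subgroup_dvd_card T)))
    (fun H hH => by
      have := h.simple
      rcases (normal_of_index_eq_two hH).eq_bot_or_eq_top with rfl | rfl
      · have := (index_bot.symm.trans hH) ▸ card_subgroup_dvd_card T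
        rw [h.card] at this
        omega
      · simp at hH) S _ (hS ▸ k.MT h)
    (by have := Transfer.card_mul_relIndex (k.MT h); rw [k.cardM h, h.card] at this; rw [hS]; omega) 2 (by decide)
    (fun y hy y' => by
      have n : ¬ orderOf y ∣ 2 := fun d => k.sq_out h (hS ▸ hy) y' (by
        rw [← sq, orderOf_dvd_iff_pow_eq_one.1 d]; exact A.one_mem)
      have := orderOf_pos y
      by_contra hn
      interval_cases orderOf y <;> simp_all) r (hS ▸ rT)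
    (orderOf_eq_prime_pow (by rwa [pow_one, sq]) (by rw [← e4, ← p4]; rfl))
  have uA : cj g (r * r) ∈ A := map_mul (cj g) r r ▸ k.sqA h hg
  obtain ⟨P, hP, AP⟩ := Syl.exists_ge (pg_sq k.el) (k.el.cent uA)
  obtain ⟨c, hc, cP⟩ := hP.exists_conj_le (Transfer.isPGroup_conj (h.pg.to_le (inf_le_left : T ⊓ 𝐂[r * r] ≤ T)) g)
    (Transfer.conj_le_iff.2 fun x hx => mem_centralizer_singleton_iff.2 <| by
      change cj g x * _ = _ * cj g x
      rw [← map_mul, ← map_mul, mem_centralizer_singleton_iff.1 hx.2])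
  obtain ⟨l, -, lP⟩ := h.syl.exists_conj_le hP.pgroup le_top
  have lA := k.uniq h c8 ((Transfer.conj_mono l AP).trans lP) (k.el.conj l) (by rw [Transfer.card_conj, k.card])
  have gC : ∀ x ∈ T ⊓ 𝐂[r * r], cj (l * (c * g)) x ∈ T := Transfer.conj_le_iff.1 <| by
    rw [← Transfer.conj_conj, ← Transfer.conj_conj]
    exact (Transfer.conj_mono l cP).trans lP
  have gt : cj (l * (c * g)) (r * r) ∈ A := by
    rw [← cj_cj, ← cj_cj, cj_fix.2 (mem_centralizer_singleton_iff.2 (mem_centralizer_singleton_iff.1 hc).symm), ← lA]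
    exact Transfer.conj_mem_conj.2 uA
  generalize l * (c * g) = q at gC gt
  have yM := k.inM h (gC r ⟨rT, mem_centralizer_singleton_iff.2 (mul_assoc ..).symm⟩) (map_mul (cj q) r r ▸ gt)
  have yA : cj q r ∉ A := fun e => t1 (cj_eq_one.1 (map_mul (cj q) r r ▸ k.el _ e))
  have ct : 𝐂(A ⊔ zpowers (s * s)) ≤ 𝐂[r * r] := fun x hx =>
    mem_centralizer_singleton_iff.2 (mem_centralizer_iff.1 hx _ tM).symm
  have EA : A ⊓ 𝐂(A ⊔ zpowers (s * s)) ⊔ zpowers (r * r) ≤ q⁻¹ ⋆ A := by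
    refine Transfer.conj_le_iff_le_inv_conj.1 (Transfer.conj_le_iff.2 ?_)
    change _ ≤ A.comap (cj q)
    refine sup_le (fun x hx => by_contra fun x' => ?_) (zpowers_le.2 gt)
    have := k.el _ (k.ixA h (k.inM h (gC x ⟨k.le hx.1, ct hx.2⟩) (by rw [← map_mul, k.el x hx.1, map_one]; exact A.one_mem)) yM x' yA)
    rw [← map_mul, ← map_mul, cj_eq_one] at this
    exact k.sq_out h (T.mul_mem (k.le hx.1) rT) (fun e => rM ((mul_mem_cancel_left (mem_sup_left hx.1)).1 e)) (this ▸ A.one_mem)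
  have nM := h.ixnorm (k.MT h) (k.cardM h)
  have TE : T ≤ 𝐍(A ⊓ 𝐂(A ⊔ zpowers (s * s)) ⊔ zpowers (r * r)) := fun x hx => by
    refine norm_sup_zp (fun y hy => mem_sup_left (cj_mem (nrm_inf (k.norm hx) (nrm_cent (nM hx))) hy)) ?_
    have w := k.ixA h (cj_mem (nM hx) tM) tM (fun e => tA ((cj_mem_iff (k.norm hx)).1 e)) tA
    have w2 : cj x (r * r) * cj x (r * r) = 1 := by rw [← map_mul, e4, map_one]
    rw [← mul_mem_cancel_right (mem_sup_right (mem_zpowers (r * r)))]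
    refine mem_sup_left ⟨w, k.cenM h w tM tA (mem_centralizer_singleton_iff.2 ?_)⟩
    have := k.el _ w
    generalize cj x (r * r) = u at *
    generalize r * r = t at *
    rw [mul_assoc, e4, mul_one, ← mul_left_cancel_iff (a := u), w2, ← this]
    simp only [mul_assoc]
  obtain ⟨n, hn, nA⟩ := Syl.exists_conj_le (h.syl.of_le TE le_top) (pg_sq (k.el.conj q⁻¹)) fun x hx =>
    centralizer_le_normalizer _ (mem_centralizer_iff.2 fun y hy => sq_comm (k.el.conj q⁻¹) (EA hy) hx)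
  have := Transfer.conj_mono n EA
  rw [Transfer.conj_eq_self_iff.2 hn,
    k.uniq h c8 nA ((k.el.conj _).conj n) (by rw [Transfer.card_conj, Transfer.card_conj, k.card])] at this
  exact tA (this (mem_sup_right (mem_zpowers _)))

/-- `b = s²`, `z = b²`, `δ a = ⁅a, b⁆` an endomorphism of `A` with `δ² = 0`, `(a b)² = δ a · z`.  If `z ∉ im δ` then every involution
of `T` lies in `A` (`sq_out`), `A` is strongly closed and abelian, against `h.nsc`.  So `z ∈ im δ`, `|im δ|² ≤ 32` gives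
`|im δ| ∈ {2, 4}`; 4 is `gam`; for 2, `im δ = {1, z}` and `h.al` applies to `M = A ⊔ ⟨b⟩`. -/
theorem al : ∃ M z, Al T M z := by
  have bN := k.bN h
  have sq : ∀ t, t ∈ A ⊔ zpowers (s * s) → t ∉ A → ∃ a : A, t * t = (dl k.el bN a).1 * (s * s * (s * s)) := fun t ht t' =>
    ⟨⟨_, ((k.memM h).1 ht).resolve_left t'⟩, by rw [dl_cm, cdef, inv_self (k.el _ (((k.memM h).1 ht).resolve_left t'))]; group⟩
  have hz : (⟨_, k.zA h⟩ : A) ∈ (dl k.el bN).range := by
    by_contra hn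
    refine h.nsc A (fun e => by have := k.card; rw [e, card_bot] at this; omega) ⟨k.le, fun x hx g hg => by_contra fun n => ?_⟩
      fun x hx y hy => cm_one.2 (sq_comm k.el hx hy) ▸ one_mem _
    have e : g * x * g⁻¹ * (g * x * g⁻¹) = 1 := (map_mul (cj g) x x).symm.trans (cj_eq_one.2 (k.el x hx))
    obtain ⟨a, ha⟩ := sq _ (k.inM h hg (e ▸ A.one_mem)) n
    exact hn ⟨a, Subtype.ext ((eq_inv_of_mul_eq_one_left (ha.symm.trans e)).trans (inv_self (k.el _ (k.zA h))))⟩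
  have e1 := card_mul_index (dl k.el bN).ker
  rw [index_ker, k.card] at e1
  have e2 := card_le_of_le (show (dl k.el bN).range ≤ (dl k.el bN).ker from by
    rintro _ ⟨v, rfl⟩
    rw [MonoidHom.mem_ker, dl_dl, dl_one]
    exact k.el.cent (k.zA h) v.2)
  have z1 : (⟨_, k.zA h⟩ : A) ≠ 1 := fun e => h.s4 (congrArg Subtype.val e)
  have e3 : 1 < Nat.card (dl k.el bN).range := one_lt_card_iff_ne_bot _ |>.2 fun e => z1 (mem_bot.1 (e ▸ hz))
  by_cases c8 : Nat.card (dl k.el bN).ker = 8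
  · obtain ⟨c, hc⟩ := hz
    exact (k.gam h (dl_ker k.el bN ▸ c8) ⟨c, c.2, dl_cm k.el bN c ▸ congrArg Subtype.val hc⟩).elim
  have e4 : Nat.card (dl k.el bN).range = 2 := by
    have : Nat.card (dl k.el bN).range ≤ 5 := by nlinarith
    interval_cases Nat.card (dl k.el bN).range <;> omega
  refine ⟨_, _, h.al (k.MT h) (k.cardM h) (mem_sup_left (k.zA h)) (k.el _ (k.zA h)) fun m hm => ?_⟩
  by_cases m' : m ∈ A
  · exact .inl (k.el _ m')
  obtain ⟨a, ha⟩ := sq m hm m'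
  by_cases e : dl k.el bN a = 1
  · exact .inr (by rw [ha, e, coe_one, one_mul])
  obtain ⟨y, -, hy⟩ := (Nat.card_eq_two_iff' (1 : (dl k.el bN).range)).1 e4
  have := (hy ⟨_, a, rfl⟩ fun i => e (congrArg Subtype.val i)).trans (hy ⟨_, hz⟩ fun i => z1 (congrArg Subtype.val i)).symm
  exact .inl (by rw [ha, show dl k.el bN a = ⟨_, k.zA h⟩ from congrArg Subtype.val this]; exact k.el _ (k.zA h))

end Ga

end Cfsg.Lib.TA
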