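import Cfsg.Agent.Lib.TA.A0x

/-!
# S3490, part A: case (α1), `M ⊓ 𝐂[u]` elementary; the structure of `M` and the case `A₁ ⊴ T`
-/

set_option autoImplicit false

namespace Cfsg.Lib.TA

open Subgroup Cfsg.Lib.BG Cfsg.Lib.FGS Cfsg.Lib.SR Cfsg.Lib.N8
open scoped commutatorElement Cfsg.Lib.Transfer

variable {G : Type*} [Group G] [Finite G] {B M T : Subgroup G} {a m r s u y z : G}

/-- `M = Z ⟨u, a⟩` with `Z ≅ E₁₆` central and `⟨u, a⟩ ≅ D₈` -/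
structure Aa (T M : Subgroup G) (z u a : G) : Prop where
  al : Al T M z
  um : u ∈ M
  uz : IsConj u z
  ne : u ≠ z
  el : El (M ⊓ 𝐂[u])
  am : a ∈ M
  aa : a * a = 1
  au : ⁅a, u⁆ = z

/-- `f0`: some `c ∈ M` has `⁅c, u⁆ = z`; `(c u)² = c² ⁅.., ..⁆ = c² z`, so `c` or `c u` is an involution. -/
theorem Al.aa (k : Al T M z) (h : Ax T s) (hu : u ∈ M) (e : IsConj u z) (ne : u ≠ z) (el : El (M ⊓ 𝐂[u])) :
    ∃ a, Aa T M z u a := by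
  obtain ⟨c, hc, c'⟩ := k.excx h e ne
  have uu : u * u = 1 := el u ⟨hu, self_mem_cent1 u⟩
  have q := k.cmzx hc hu c'
  rcases k.sq c hc with c2 | c2
  · exact ⟨c, k, hu, e, ne, el, hc, c2, q⟩
  refine ⟨c * u, k, hu, e, ne, el, mul_mem hc hu, ?_, q ▸ by simp only [cdef]; group⟩
  calc c * u * (c * u) = ⁅c, u⁆ * (u * (c * c) * u) := by simp only [cdef]; group
    _ = 1 := by rw [q, c2, ← k.zcx (k.le hu), mul_assoc z u, uu, mul_one, k.zz]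

local notation "𝐙" => M ⊓ 𝐂[u] ⊓ 𝐂[a]

namespace Aa

variable (k : Aa T M z u a)
include k

omit [Finite G] in
theorem uu : u * u = 1 := k.el u ⟨k.um, mem_cent1.2 rfl⟩

omit [Finite G] in
theorem naux : a ∉ 𝐂[u] := fun q => k.al.ne (k.au ▸ cm_one.2 (mem_cent1.1 q))

omit [Finite G] in
theorem nuax : u ∉ 𝐂[a] := fun q => k.naux (mem_cent1_symm q)

omit [Finite G] in
theorem u1x : u ∈ M ⊓ 𝐂[u] := ⟨k.um, self_mem_cent1 u⟩

/-- `card_cent`, `a ∉ 𝐂[u]` -/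
theorem card1 : Nat.card ↥(M ⊓ 𝐂[u]) = 32 := by
  have l1 := k.al.card_cent le_rfl k.um
  have l2 := two_lex (inf_le_left : M ⊓ 𝐂[u] ≤ M) k.am fun q => k.naux q.2
  have := k.al.card
  omega

theorem cardZ : Nat.card ↥(𝐙) = 16 := by
  have l1 := k.al.card_cent (inf_le_left : M ⊓ 𝐂[u] ≤ M) k.am
  have l2 := two_lex (inf_le_left : 𝐙 ≤ M ⊓ 𝐂[u]) k.u1x fun q => k.nuax q.2
  have := k.card1
  omega

theorem ix1x (hm : m ∈ M) (hy : y ∈ M) (m' : m ∉ 𝐂[u]) (y' : y ∉ 𝐂[u]) : m * y ∈ M ⊓ 𝐂[u] :=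
  ix2x inf_le_left (by rw [k.card1, k.al.card]) hm hy (fun q => m' q.2) fun q => y' q.2

theorem ixZx (hm : m ∈ M ⊓ 𝐂[u]) (m' : m ∉ 𝐂[a]) : m * u ∈ 𝐙 :=
  ix2x inf_le_left (by rw [k.card1, k.cardZ]) hm k.u1x (fun q => m' q.2) fun q => k.nuax q.2

theorem ixax (hm : m ∈ M ⊓ 𝐂[a]) (m' : m ∉ 𝐂[u]) : m * a ∈ 𝐙 :=
  ⟨k.ix1x hm.1 k.am m' k.naux, mul_mem hm.2 (self_mem_cent1 a)⟩

theorem mem_iff : m ∈ M ↔ ∃ y ∈ 𝐙, m = y ∨ m = y * u ∨ m = y * a ∨ m = y * (u * a) := by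
  refine ⟨fun hm => ?_, ?_⟩
  · by_cases q : m ∈ 𝐂[u]
    · by_cases w : m ∈ 𝐂[a]
      · exact ⟨m, ⟨⟨hm, q⟩, w⟩, .inl rfl⟩
      · exact ⟨_, k.ixZx ⟨hm, q⟩ w, .inr (.inl (by rw [mul_assoc, k.uu, mul_one]))⟩
    · have p := k.ix1x hm k.am q k.naux
      by_cases w : m * a ∈ 𝐂[a]
      · exact ⟨_, ⟨p, w⟩, .inr (.inr (.inl (by rw [mul_assoc, k.aa, mul_one])))⟩
      · refine ⟨_, k.ixZx p w, .inr (.inr (.inr ?_))⟩
        rw [mul_assoc, ← mul_assoc u, k.uu, one_mul, mul_assoc, k.aa, mul_one]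
  · rintro ⟨y, hy, rfl | rfl | rfl | rfl⟩
    exacts [hy.1.1, mul_mem hy.1.1 k.um, mul_mem hy.1.1 k.am, mul_mem hy.1.1 (mul_mem k.um k.am)]

theorem cenZ : M ≤ 𝐂(𝐙) := fun m hm => le_cent1_iff.1 fun w hw => mem_cent1_symm <| by
  obtain ⟨y, hy, e⟩ := k.mem_iff.1 hm
  have cy : y ∈ 𝐂[w] := mem_cent1.2 (sq_comm k.el hy.1 hw.1)
  have cu := mem_cent1_symm hw.1.2
  have ca := mem_cent1_symm hw.2
  rcases e with rfl | rfl | rfl | rfl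
  exacts [cy, mul_mem cy cu, mul_mem cy ca, mul_mem cy (mul_mem cu ca)]

theorem cZx (hm : m ∈ M) (hy : y ∈ 𝐙) : m ∈ 𝐂[y] := cent_le_cent1 hy (cent_symm (cent_symm k.cenZ) hm)

theorem eqZ : M ⊓ 𝐂(M) = 𝐙 := le_antisymm
  (fun _ hy => ⟨⟨hy.1, cent_le_cent1 k.um hy.2⟩, cent_le_cent1 k.am hy.2⟩) (le_inf (fun _ hy => hy.1.1) (cent_symm k.cenZ))

theorem zZ : z ∈ 𝐙 := k.eqZ ▸ k.al.zZx

theorem card2 : Nat.card ↥(M ⊓ 𝐂[a]) = 32 := by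
  have l1 := k.al.card_cent le_rfl k.am
  have l2 := two_lex (inf_le_left : M ⊓ 𝐂[a] ≤ M) k.um fun q => k.nuax q.2
  have := k.al.card
  omega

theorem el2 : El (M ⊓ 𝐂[a]) := fun m hm => by
  by_cases q : m ∈ 𝐂[u]
  · exact k.el m ⟨hm.1, q⟩
  have e := k.el _ (k.ixax hm q).1
  rwa [mul_assoc, ← mul_assoc a, ← mem_cent1.1 hm.2, mul_assoc, k.aa, mul_one] at e

/-- `(y u a)² = z` -/
theorem inv (hm : m ∈ M) (m2 : m * m = 1) : m ∈ 𝐂[u] ∨ m ∈ 𝐂[a] := by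
  refine (em _).imp_right fun q => mem_cent1.2 ?_
  rw [← inv_self (k.el _ (k.ix1x hm k.am q k.naux)), mul_inv_rev, inv_self m2, inv_self k.aa]

/-- a subgroup covered by two subgroups lies in one of them -/
theorem el_le (hB : B ≤ M) (e : El B) : B ≤ M ⊓ 𝐂[u] ∨ B ≤ M ⊓ 𝐂[a] := by
  refine (em _).imp_right fun q c hc => ⟨hB hc, ?_⟩
  obtain ⟨b, hb, b'⟩ := SetLike.not_le_iff_exists.1 q
  have bu : b ∉ 𝐂[u] := fun w => b' ⟨hB hb, w⟩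
  have ba := (k.inv (hB hb) (e b hb)).resolve_left bu
  refine (k.inv (hB hc) (e c hc)).elim (fun w => ?_) id
  rcases k.inv (hB (mul_mem hb hc)) (e _ (mul_mem hb hc)) with p | p
  · exact (bu (cent_of_mulx p w)).elim
  · exact (𝐂[a].mul_mem_cancel_left ba).1 p

theorem sup : M ⊓ 𝐂[u] ⊔ M ⊓ 𝐂[a] = M := by
  refine le_antisymm (sup_le inf_le_left inf_le_left) fun m hm => ?_
  by_cases q : m ∈ 𝐂[u]
  · exact mem_sup_left ⟨hm, q⟩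
  have e := mul_mem_sup (k.ix1x hm k.am q k.naux) (show a ∈ M ⊓ 𝐂[a] from ⟨k.am, self_mem_cent1 a⟩)
  rwa [mul_assoc, k.aa, mul_one] at e

variable (h : Ax T s)
include h

theorem normZ : T ≤ 𝐍(𝐙) := k.eqZ ▸ norm_inf (k.al.norm h) (norm_cent (k.al.norm h))

theorem cjMx (hr : r ∈ T) (hm : m ∈ M) : cj r m ∈ M := cj_mem (k.al.norm h hr) hm

/-- Non-swap case.  `A₁ = M ⊓ 𝐂[u] = Z ∪ Z u`; `cj s u ∈ A₁ ∖ Z`, so `s` and `M` normalize `A₁`.  `b = s² ∈ M ∖ A₁` (`b² = z`), and for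
`t = m s ∈ T ∖ M`, `t² = m · cj s m · b ∉ A₁` (`M / A₁` has order 2), so all involutions of `T` lie in `M`.  `extr`: `cj g u = z`,
`g ⋆ A₁ ≤ T`, so `g ⋆ A₁ ≤ M` is `A₁` or `A₂` (`el_le`, orders) and contains `Z`.  `H = g⁻¹ ⋆ Z ≤ A₁` has index 2 and its only conjugate
of `z` is `u` (`f0`, `cenZ`), so `z ∉ H`.  `cj s u` and `cj s u · z = cj s (cj a u)` are conjugates of `z` in `A₁`, one lies in `H`:
`cj s u ∈ {u, u z}`, so `cj b u = u`, `b ∈ A₁`. -/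
theorem nswap : cj s u ∉ 𝐂[u] := fun hs => by
  have al := k.al
  have w1 : cj s u ∈ M ⊓ 𝐂[u] := ⟨k.cjMx h h.mem k.um, hs⟩
  have sn : s ∈ 𝐍(M ⊓ 𝐂[u]) := norm_of fun x hx => by
    by_cases q : x ∈ 𝐂[a]
    · exact (cj_mem (k.normZ h h.mem) ⟨hx, q⟩).1
    · have e := mul_mem (cj_mem (k.normZ h h.mem) (k.ixZx hx q)).1 w1
      rwa [← map_mul, mul_assoc, k.uu, mul_one] at e
  have bM : s * s ∈ M := al.sqM h h.mem
  have b1 : s * s ∉ M ⊓ 𝐂[u] := fun q => h.s4 (k.el _ q)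
  have iv : ∀ t ∈ T, t * t = 1 → t ∈ M := fun t ht t2 => by
    by_contra t'
    have hm : t * s⁻¹ ∈ M := al.ix h ht (inv_mem h.mem) t' fun q => al.sM h (inv_mem_iff.1 q)
    have e : t * s⁻¹ * cj s (t * s⁻¹) ∈ M ⊓ 𝐂[u] := by
      by_cases q : t * s⁻¹ ∈ 𝐂[u]
      · exact mul_mem ⟨hm, q⟩ (cj_mem sn ⟨hm, q⟩)
      · exact k.ix1x hm (k.cjMx h h.mem hm) q fun w => q ((cj_mem_iff sn).1 ⟨k.cjMx h h.mem hm, w⟩).2
    rw [show t * s⁻¹ * cj s (t * s⁻¹) = t * t * (s * s)⁻¹ by rw [cj_def]; group, t2, one_mul] at e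
    exact b1 (inv_mem_iff.1 e)
  obtain ⟨g, gu, gT⟩ := h.extr al.cen k.uz (pg_sq k.el) inf_le_right
  have eB : El (g ⋆ (M ⊓ 𝐂[u])) := by
    rintro _ ⟨x, hx, rfl⟩
    exact (map_mul (cj g) x x).symm.trans (cj_eq_one.2 (k.el x hx))
  have cB := (Transfer.card_conj g (M ⊓ 𝐂[u])).trans k.card1
  have ZB : 𝐙 ≤ g ⋆ (M ⊓ 𝐂[u]) := by
    rcases k.el_le (fun x hx => iv x (gT hx) (eB x hx)) eB with e | e
    · exact inf_le_left.trans (eq_of_le_of_card_le e (by rw [cB, k.card1])).ge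
    · exact fun x hx => (eq_of_le_of_card_le e (by rw [cB, k.card2])).ge ⟨hx.1.1, hx.2⟩
  have f : ∀ x, IsConj x z → cj g x ∈ 𝐙 → x = u := fun x e q =>
    cj_inj ((al.f0 h (fun m hm => k.cZx hm q) (isConj_cjx g e)).trans gu.symm)
  have zs := al.cjzx h.mem
  refine b1 ⟨bM, mem_cent1_symm (cj_fix.1 ?_)⟩
  rw [← cj_cj]
  by_cases q : cj g (cj s u) ∈ 𝐙
  · rw [f _ (isConj_cjx s k.uz) q, f _ (isConj_cjx s k.uz) q]
  have e := ix2x ZB (by rw [cB, k.cardZ]) (cj_starx.2 k.zZ.1) (cj_starx.2 w1) (fun p => k.ne (f _ (.refl z) p).symm) q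
  rw [← map_mul] at e
  have e0 : z * cj s u = cj s (cj a u) := by rw [cj_eq a, k.au, map_mul, zs]
  have e' : z * cj s u = u := f _ (e0 ▸ isConj_cjx s (isConj_cjx a k.uz)) e
  have e2 : cj s u = z * u := mul_left_cancel (a := z) (by rw [e', ← mul_assoc, al.zz, one_mul])
  rw [e2, map_mul, zs, e']

/-- elements outside `M` swap `A₁` and `A₂`: `r = m s`; `cj s u` is an involution of `M ∖ A₁`, so lies in `Z a` (`mem_iff`) and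
`cj r u ∈ Z a` too (`a.cm`). -/
theorem swap (hr : r ∈ T) (r' : r ∉ M) : ∃ y ∈ 𝐙, cj r u = y * a := by
  have hm : r * s⁻¹ ∈ M := k.al.ix h hr (inv_mem h.mem) r' fun q => k.al.sM h (inv_mem_iff.1 q)
  have wM := k.cjMx h h.mem k.um
  have wa := (k.inv wM ((map_mul _ u u).symm.trans (cj_eq_one.2 k.uu))).resolve_left (k.nswap h)
  have y0 := k.ixax ⟨wM, wa⟩ (k.nswap h)
  have e : cj r u = cj (r * s⁻¹) (cj s u) := by rw [cj_cj, inv_mul_cancel_right]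
  rcases k.al.cj_orx hm wM with q | q
  · exact ⟨_, y0, by rw [e, q, mul_assoc, k.aa, mul_one]⟩
  · exact ⟨_, mul_mem k.zZ y0, by rw [e, q, mul_assoc, mul_assoc, k.aa, mul_one]⟩

/-- `cj r a` is an involution of `M ∖ Z`; it is not in `Z a = cj r (Z u)`. -/
theorem swap' (hr : r ∈ T) (r' : r ∉ M) : ∃ y ∈ 𝐙, cj r a = y * u := by
  obtain ⟨y, hy, e⟩ := k.swap h hr r'
  have wM := k.cjMx h hr k.am
  have wa : cj r a ∉ 𝐂[a] := fun q => k.naux <| (cj_centx (g := r)).1 <| mem_cent1_symm <| by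
    rw [e]
    exact mul_mem (mem_cent1_symm (k.cZx wM hy)) (mem_cent1_symm q)
  have wu := (k.inv wM ((map_mul _ a a).symm.trans (cj_eq_one.2 k.aa))).resolve_right wa
  exact ⟨_, k.ixZx ⟨wM, wu⟩ wa, by rw [mul_assoc, k.uu, mul_one]⟩

/-- `m ∈ A₁` or `A₂` (`inv`); if `m = y u` then `m = cj r m ∈ Z a` (`swap`, `normZ`), absurd; the same for `y a`. -/
theorem fix (hr : r ∈ T) (r' : r ∉ M) (hm : m ∈ M) (m2 : m * m = 1) (c : r * m = m * r) : m ∈ 𝐙 := by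
  have e : cj r m = m := cj_fix.2 (mem_cent1.2 c.symm)
  rcases k.inv hm m2 with q | q
  · obtain ⟨y, hy, p⟩ := k.swap h hr r'
    have w := (cj_centx (g := r)).2 q
    rw [e, p] at w
    exact ⟨⟨hm, q⟩, cent_of_mulx' w (k.cZx hm hy)⟩
  · obtain ⟨y, hy, p⟩ := k.swap' h hr r'
    have w := (cj_centx (g := r)).2 q
    rw [e, p] at w
    exact ⟨⟨hm, cent_of_mulx' w (k.cZx hm hy)⟩, q⟩

end Aa

end Cfsg.Lib.TA
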