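import Cfsg.Agent.Lib.TA.A5
import Cfsg.Agent.Lib.TA.A0n

/-!
# S3490, part A: case (α1), `T` swaps `A₁` and `A₂`
-/

set_option autoImplicit false

namespace Cfsg.Lib.TA

open Subgroup Cfsg.Lib.BG Cfsg.Lib.FGS Cfsg.Lib.SR Cfsg.Lib.N8
open scoped commutatorElement Cfsg.Lib.Transfer

variable {G : Type*} [Group G] [Finite G] {B M T : Subgroup G} {a g m r s u w y z : G}

local notation "𝐙" => M ⊓ 𝐂[u] ⊓ 𝐂[a]

omit [Finite G] in
theorem a6_ix {H K : Subgroup G} {x y : G} (d : H.relIndex K ∣ 2) (hx : x ∈ K) (hy : y ∈ K) (x' : x ∉ H) (y' : y ∉ H) :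
    x * y ∈ H := by
  rcases (Nat.dvd_prime Nat.prime_two).1 d with e | e
  · exact absurd (relIndex_eq_one.1 e hx) x'
  · exact (mul_mem_iff_of_index_two (H := H.subgroupOf K) e (a := ⟨x, hx⟩) (b := ⟨y, hy⟩)).2 (iff_of_false x' y')

theorem a6_n5 {n : ℕ} (h1 : 16 ≡ n [MOD 5]) (h2 : n ∣ 16) (h3 : 2 ∣ n) : n = 16 :=
  (by decide : ∀ n ≤ 16, 16 ≡ n [MOD 5] → n ∣ 16 → 2 ∣ n → n = 16) n (Nat.le_of_dvd (by norm_num) h2) h1 h2 h3

theorem a6_n3 {n : ℕ} (h1 : 16 ≡ n [MOD 3]) (h2 : n ∣ 16) (h3 : 2 ∣ n) (h4 : n ≤ 8) : n = 4 :=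
  (by decide : ∀ n ≤ 8, 16 ≡ n [MOD 3] → n ∣ 16 → 2 ∣ n → n = 4) n h4 h1 h2 h3

omit [Finite G] in
theorem a6_cm {x : G} (h1 : x * ⁅y, r⁆ = ⁅y, r⁆ * x) : ⁅x * y, r⁆ = ⁅y, r⁆ * ⁅x, r⁆ := by
  calc _ = x * ⁅y, r⁆ * (r * x⁻¹ * r⁻¹) := by simp only [cdef]; group
    _ = _ := by rw [h1]; simp only [cdef]; group

namespace Aa

variable (k : Aa T M z u a) (h : Ax T s)
include k h

/-- Otherwise `M` (class 2 by `cm`) is strongly closed: if `m ∈ M`, `r = cj g m ∈ T ∖ M` then `v = r² ∈ {1, cj g z}`, `v ∉ {1, z}`, so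
`v ∈ M` (`sqM`) is a conjugate of `z` centralized by `r`, `v ∈ Z` (`fix`), `v = z` (`f0`). -/
theorem exr : ∃ r ∈ T, r ∉ M ∧ (r * r = 1 ∨ r * r = z) := by
  by_contra hn
  refine h.nsc M (ne_bot_of_mem k.al.mem k.al.ne) ⟨k.al.le, fun m hm g hg => ?_⟩ fun x hx y hy => ?_
  · by_contra r'
    change cj g m ∈ T at hg
    change cj g m ∉ M at r'
    have h1 : cj g m * cj g m ≠ 1 := fun e => hn ⟨_, hg, r', .inl e⟩
    have h2 : cj g m * cj g m ≠ z := fun e => hn ⟨_, hg, r', .inr e⟩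
    have e : cj g m * cj g m = cj g z := by
      rcases k.al.sq m hm with e | e
      · exact absurd (by rw [← map_mul, e, map_one]) h1
      · rw [← map_mul, e]
    have hv := k.fix h hg r' (k.al.sqM h hg) (by rw [e, ← map_mul, k.al.zz, map_one]) (by group)
    refine h2 (k.al.f0 h (fun n hn => mem_cent1.2 (mem_cent.1 (k.cenZ hn) _ hv).symm) ?_)
    rw [e]
    exact (isConj_iff.2 ⟨g, rfl⟩).symm
  · rcases k.al.cm hx hy with e | e <;> rw [e]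
    exacts [one_mem _, le_cent1_iff.1 (k.al.le.trans k.al.cen)]

variable (hr : r ∈ T) (r' : r ∉ M) (r2 : r * r = 1 ∨ r * r = z)
include hr r' r2

/-- `Wmem`: `w ∈ ⁅m, r⁆ ⟨z⟩`.  Modulo `⟨z⟩`, `δ m = ⁅m, r⁆` is additive, `δ Z ≤ Z`, `δ u, δ a ∈ Z u a` (`swap`, `swap'`), so `δ m ∈ Z`
forces `m ∈ Z ∪ Z u a = Z ∪ Z c` with `c = ⁅u, r⁆`, and `δ c ∈ ⟨z⟩` (`r² ∈ ⟨z⟩`: `cj r c = ⁅cj r u, r⁆ = c⁻¹`). -/
theorem WZ (hw : w ∈ Fr2 T) (hZ : w ∈ 𝐙) : ∃ y ∈ 𝐙, w = ⁅y, r⁆ ∨ w = ⁅y, r⁆ * z := by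
  obtain ⟨m, hm, e⟩ := k.al.Wmem h hr r' r2 hw
  have zi := inv_self k.al.zz
  have ui := inv_self k.uu
  have ai := inv_self k.aa
  have cZ : ∀ y ∈ 𝐙, ∀ n ∈ M, y * n = n * y := fun y hy n hn => mem_cent.1 (k.cenZ hn) y hy
  have dZ : ∀ y ∈ 𝐙, ⁅y, r⁆ ∈ 𝐙 := fun y hy => by
    have := mul_mem hy (cj_mem (k.normZ h hr) (inv_mem hy))
    rwa [cj_def, ← mul_assoc, ← mul_assoc] at this
  have m1 : ⁅m, r⁆ ∈ 𝐙 := by
    rcases e with e | e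
    · exact e ▸ hZ
    · exact (mul_mem_cancel_right k.zZ).1 (e ▸ hZ)
  have na : u * a ∉ 𝐙 := fun e => k.al.ne (by
    rw [← k.au, cm_one]; exact mem_cent1.1 ((mul_mem_cancel_left (self_mem_cent1 u)).1 e.1.2))
  have na' : a * u ∉ 𝐙 := fun e => na (by simpa [ui, ai] using inv_mem e)
  obtain ⟨y1, hy1, e1⟩ := k.swap h hr r'
  obtain ⟨y2, hy2, e2⟩ := k.swap' h hr r'
  have du : ⁅u, r⁆ = y1 * (u * a) := by
    calc _ = u * cj r u⁻¹ := by rw [cj_def, cdef]; group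
      _ = _ := by rw [ui, e1, ← mul_assoc, ← cZ y1 hy1 u k.um, mul_assoc]
  have da : ⁅a, r⁆ = y2 * (a * u) := by
    calc _ = a * cj r a⁻¹ := by rw [cj_def, cdef]; group
      _ = _ := by rw [ai, e2, ← mul_assoc, ← cZ y2 hy2 a k.am, mul_assoc]
  have dm : ∀ y ∈ 𝐙, ∀ x ∈ M, ⁅y * x, r⁆ = ⁅y, r⁆ * ⁅x, r⁆ := fun y hy x hx => by
    rw [cZ y hy x hx, a6_cm (cZ _ (dZ y hy) x hx).symm]
  obtain ⟨y, hy, rfl | rfl | rfl | rfl⟩ := k.mem_iff.1 hm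
  · exact ⟨_, hy, e⟩
  · rw [dm y hy u k.um, du, mul_mem_cancel_left (dZ y hy), mul_mem_cancel_left hy1] at m1
    exact absurd m1 na
  · rw [dm y hy a k.am, da, mul_mem_cancel_left (dZ y hy), mul_mem_cancel_left hy2] at m1
    exact absurd m1 na'
  have ru : cj r (cj r u) = u := by
    rw [cj_cj, cj_fix]
    rcases r2 with e | e <;> rw [e]
    exacts [by simp, k.al.cen (k.al.le k.um)]
  have y12 : y1 * y2 = ⁅y1, r⁆ := by
    rw [e1, map_mul, e2, ← mul_assoc, mul_eq_right] at ru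
    rw [eq_inv_of_mul_eq_one_right ru, cj_def, cdef]; group
  have zu : u * a * (u * a) = z := by
    have := congrArg (·⁻¹) k.au
    simp only [cdef, mul_inv_rev, inv_inv, ui, ai, zi] at this
    rw [← this]; simp only [mul_assoc]
  have dua : ⁅u * a, r⁆ = ⁅y1, r⁆ * z := by
    calc _ = u * a * (cj r a⁻¹ * cj r u⁻¹) := by simp only [cj_def, cdef]; group
      _ = u * a * (y2 * (u * y1) * a) := by rw [ui, ai, e1, e2]; simp only [mul_assoc]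
      _ = u * a * (y1 * y2) * (u * a) := by
        rw [← cZ y1 hy1 u k.um, cZ y1 hy1 y2 hy2.1.1]; simp only [mul_assoc]
      _ = _ := by rw [← cZ _ (mul_mem hy1 hy2) _ (mul_mem k.um k.am), mul_assoc, zu, y12]
  refine ⟨y * y1, mul_mem hy hy1, ?_⟩
  rw [dm y hy _ (mul_mem k.um k.am), dua, ← mul_assoc, ← dm y hy y1 hy1.1.1] at e
  rcases e with e | e
  · exact .inr e
  · exact .inl (by rw [e, mul_assoc, k.al.zz, mul_one])

/-- otherwise `T ≤ 𝐂(Z)` and `nz` gives `Z ≤ Fr2 T`, against `W8` -/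
theorem ncen : r ∉ 𝐂(𝐙) := fun c => by
  have c1 : T ≤ 𝐂(𝐙) := fun t ht => by
    by_cases e : t ∈ M
    · exact k.cenZ e
    · exact (mul_mem_cancel_right c).1 (k.cenZ (k.al.ix h ht hr e r'))
  have c2 : 𝐙 ≤ Fr2 T := fun e he => k.al.nz h (inf_le_left.trans inf_le_left) c1 k.cardZ.ge he (k.el e he.1)
  have := (card_le_of_le c2).trans (k.al.W8 h hr r' r2)
  rw [k.cardZ] at this
  omega

/-- `M` is weakly closed.  An `E₃₂` `B ≤ T` lies in `M`: else for `t ∈ B ∖ M`, `B ⊓ M ≤ Z` (`fix`) has order 16, so `t` centralizes `Z`,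
and so does `r ∈ M t` (`cenZ`), against `ncen`.  So `g ⋆ M = g ⋆ A₁ ⊔ g ⋆ A₂ ≤ M` (`sup`). -/
theorem wc (hg : g ⋆ M ≤ T) : g ∈ 𝐍(M) := by
  have i2 : M.relIndex T = 2 := by
    have := BG.card_mul_relIndex k.al.le
    rw [k.al.card, h.card] at this
    omega
  have key : ∀ B : Subgroup G, B ≤ T → El B → Nat.card B = 32 → B ≤ M := fun B hB e c t ht => by
    by_contra t'
    have h1 : M ⊓ B ≤ 𝐙 := fun b hb => k.fix h (hB ht) t' hb.1 (e b hb.2) (sq_comm e ht hb.2)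
    have h2 := BG.card_mul_relIndex (inf_le_right : M ⊓ B ≤ B)
    have h3 := relIndex_le_of_le_right (H := M) hB (by omega)
    rw [inf_relIndex_right, c] at h2
    have h4 : M ⊓ B = 𝐙 := eq_of_le_of_card_le h1 (by rw [k.cardZ]; nlinarith)
    have h5 : t ∈ 𝐂(𝐙) := h4 ▸ mem_cent.2 fun b hb => sq_comm e hb.2 ht
    exact k.ncen h hr r' r2 ((mul_mem_cancel_right h5).1 (k.cenZ (k.al.ix h hr (hB ht) r' t')))
  have cel : ∀ B : Subgroup G, El B → El (g ⋆ B) := fun B e _ ⟨b, hb, eb⟩ => by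
    rw [← eb, ← map_mul, e b hb, map_one]
  refine Transfer.mem_normalizer_of_conj_le ?_
  conv_lhs => rw [← k.sup, Transfer.conj_sup]
  exact sup_le (key _ ((Transfer.conj_mono g inf_le_left).trans hg) (cel _ k.el) (by rw [Transfer.card_conj, k.card1]))
    (key _ ((Transfer.conj_mono g inf_le_left).trans hg) (cel _ k.el2) (by rw [Transfer.card_conj, k.card2]))

/-- `N = 𝐍(M)` centralizes `z` (the only square `≠ 1` of `M`) and acts on `V = Z / ⟨z⟩ ≅ E₈` (`eqZ`); let `Λ` be the image of `N` in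
`MulAut V` (or in the permutations of the 7 elements `≠ 1`).  `|Λ|` divides 168; `7 ∤ |N|` (`Sp.comm`, 14); `T` is Sylow in `N` with image
`{1, r̄}` (`cenZ`).  So `|Λ| ∣ 6`.  If `3 ∤ |Λ|` then `Λ = {1, r̄}`: take any `y ∈ Z ∖ W` (`W8`, `cardZ`); `y⁻¹ · cj r y`, `z ∈ W`
(`cm_mem_Fr2`, `zW`).  Otherwise let `σ ∈ Λ` have order 3; `⟨σ⟩ ⊴ Λ` (index `≤ 2`), the fixed points of `σ` form a proper subgroup of `V`
of order `≡ 8 mod 3`, so `{1, ē}`, and `Λ` fixes `ē`.  If `e ∈ W` then `ē = x̄ · r̄ x̄` (`WZ`); apply `ν = 1 + σ + σ²`, which commutes with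
`r̄`, has values in `{1, ē}` and fixes `ē`: `ē = ν x̄ · r̄ (ν x̄) = 1`, absurd.  Take `y = e`. -/
theorem exy : ∃ y ∈ 𝐙, y ∉ Fr2 T ∧ ∀ g ∈ 𝐍(M), y⁻¹ * cj g y ∈ Fr2 T := by
  have : Fact (Nat.Prime 3) := ⟨by norm_num⟩
  have : Fact (Nat.Prime 5) := ⟨by norm_num⟩
  have ZM : 𝐙 ≤ M := inf_le_left.trans inf_le_left
  have eZ : El 𝐙 := fun e he => k.el e he.1
  have nZ : 𝐍(M) ≤ 𝐍(𝐙) := k.eqZ ▸ norm_inf le_rfl (norm_cent le_rfl)
  have TN : T ≤ 𝐍(M) := k.al.norm h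
  have sy : Syl 2 T 𝐍(M) := h.syl.of_le TN le_top
  have Nz : 𝐍(M) ≤ 𝐂[z] := fun g hg => by
    have b := k.al.sqM h h.mem
    rcases k.al.sq _ (cj_mem hg b) with e | e <;> rw [← map_mul, k.al.bb h] at e
    exacts [absurd (cj_eq_one.1 e) k.al.ne, mem_cent1_symm (cj_fix.1 e)]
  have oz : orderOf z = 2 := Inv.ord_two_iff.2 ⟨k.al.ne, k.al.zz⟩
  have cz : Nat.card (zpowers z) = 2 := by rw [Nat.card_zpowers, oz]
  -- fixed points of a `q`-subgroup of `N`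
  have fx : ∀ Q : Subgroup G, Q ≤ 𝐍(M) → Nat.card ↥(𝐙 ⊓ 𝐂(Q)) ∣ 16 ∧ 2 ∣ Nat.card ↥(𝐙 ⊓ 𝐂(Q)) := fun Q hQ =>
    ⟨k.cardZ ▸ card_dvd inf_le_left, cz ▸ card_dvd (zpowers_le.2 ⟨k.zZ, le_cent1_iff.1 (hQ.trans Nz)⟩)⟩
  obtain ⟨P, hP⟩ := Syl.exists (p := 3) 𝐍(M)
  set C := 𝐍(M) ⊓ 𝐂(𝐙) with hC
  set L := C ⊔ P with hL
  have MC : M ≤ C := le_inf (le_norm M) k.cenZ
  have LN : L ≤ 𝐍(M) := sup_le inf_le_left hP.le
  have i2 : M.relIndex T = 2 := by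
    have := BG.card_mul_relIndex k.al.le
    rw [k.al.card, h.card] at this
    omega
  have d2 : L.relIndex 𝐍(M) ∣ 2 := by
    have hq : ∀ q, q.Prime → q ∣ L.relIndex 𝐍(M) → q = 2 := fun q hq d => by
      have d1 := d.trans (BG.relIndex_dvd_card L 𝐍(M))
      rcases h.sp.prime hq (d1.trans (card_subgroup_dvd_card _)) with e | e | e | e
      · exact e
      · subst e
        exact absurd (d.trans (relIndex_dvd_left le_sup_right _)) hP.not_dvd'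
      · subst e
        obtain ⟨Q, hQ⟩ := Syl.exists (p := 5) 𝐍(M)
        have h1 := Transfer.card_modEq_card_inf_centralizer hQ.pgroup (hQ.le.trans nZ)
        obtain ⟨h2, h3⟩ := fx Q hQ.le
        have h5 := a6_n5 (k.cardZ ▸ h1) h2 h3
        have h6 : 𝐙 ⊓ 𝐂(Q) = 𝐙 := eq_of_le_of_card_le inf_le_left (by rw [k.cardZ, h5])
        have h7 : Q ≤ L := (le_inf hQ.le (cent_symm (inf_eq_left.1 h6))).trans le_sup_left
        exact absurd (d.trans (relIndex_dvd_left h7 _)) hQ.not_dvd'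
      · subst e
        obtain ⟨x, hx⟩ := exists_prime_orderOf_dvd_card' 7 (hp := ⟨hq⟩) d1
        exact (h.sp.comm (mem_cent1.1 (Nz x.2)) (a := 7) (b := 2) (by rw [Subgroup.orderOf_coe, hx]) oz.symm.dvd
          (by decide) (by decide)).elim
    have n0 : L.relIndex 𝐍(M) ≠ 0 := fun e => by
      have := BG.relIndex_dvd_card L 𝐍(M)
      rw [e, zero_dvd_iff] at this
      exact Nat.card_pos.ne' this
    have e := Nat.eq_prime_pow_of_unique_prime_dvd n0 (hq _)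
    have d := relIndex_dvd_left (MC.trans (le_sup_left : C ≤ L)) 𝐍(M)
    rw [← relIndex_mul_relIndex M T _ k.al.le TN, i2] at d
    refine Nat.Coprime.dvd_of_dvd_mul_right ?_ d
    rw [e]
    exact ((Nat.prime_two.coprime_iff_not_dvd).2 sy.not_dvd').pow_left _
  have rN := TN hr
  have rL : r ∈ 𝐍(L) := norm_of fun l hl => by
    by_cases e : r ∈ L
    · exact cj_mem (le_norm L e) hl
    · exact a6_ix d2 (mul_mem rN (LN hl)) (inv_mem rN) (by rwa [mul_mem_cancel_right hl]) (by rwa [inv_mem_iff])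
  have cov : ∀ g ∈ 𝐍(M), g ∈ L ∨ r⁻¹ * g ∈ L := fun g hg => by
    by_cases e : r ∈ L
    · have : T ≤ L := fun t ht => by
        by_cases e1 : t ∈ M
        · exact mem_sup_left (MC e1)
        · exact (mul_mem_cancel_right e).1 (mem_sup_left (MC (k.al.ix h ht hr e1 r')))
      rcases (Nat.dvd_prime Nat.prime_two).1 d2 with e2 | e2
      · exact .inl (relIndex_eq_one.1 e2 hg)
      · exact absurd (e2 ▸ relIndex_dvd_left this _) sy.not_dvd'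
    · by_cases e1 : g ∈ L
      exacts [.inl e1, .inr (a6_ix d2 (inv_mem rN) hg (by rwa [inv_mem_iff]) e1)]
  have F1 : 𝐙 ⊓ 𝐂(P) = 𝐙 ⊓ 𝐂(L) := by
    rw [hL, cent_sup, ← inf_assoc, inf_eq_left.2 (cent_symm (inf_le_right : C ≤ 𝐂(𝐙)))]
  have K1 : ⁅𝐙, L⁆ ≤ ⁅𝐙, P⁆ := comm_le_iff.2 fun y hy l hl => by
    obtain ⟨p, hp, c, hc, rfl⟩ := (mem_sup_right_norm (hP.le.trans (norm_inf (norm_norm le_rfl) (norm_cent nZ)))).1
      (show l ∈ P ⊔ C by rwa [sup_comm])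
    have := comm_mem_comm hy hp
    have e := mem_cent.1 hc.2 _ (inv_mem hy)
    rwa [show y * (p * c) * y⁻¹ * (p * c)⁻¹ = y * p * (c * y⁻¹) * c⁻¹ * p⁻¹ by group, ← e,
      show y * p * (y⁻¹ * c) * c⁻¹ * p⁻¹ = y * p * y⁻¹ * p⁻¹ by group]
  by_cases hF : 𝐙 ⊓ 𝐂(P) ≤ Fr2 T
  swap
  · obtain ⟨y, hy, y'⟩ := SetLike.not_le_iff_exists.1 hF
    rw [F1] at hy
    refine ⟨y, hy.1, y', fun g hg => ?_⟩
    have fl : ∀ l ∈ L, cj l y = y := fun l hl => cj_fix.2 (cent_le_cent1 hl hy.2)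
    rcases cov g hg with e | e
    · rw [fl g e, inv_mul_cancel]; exact one_mem _
    · rw [← mul_inv_cancel_left r g, ← cj_cj, fl _ e]
      have := cm_mem_Fr2 (inv_mem (k.al.le (ZM hy.1))) hr
      rwa [cdef, inv_inv, mul_assoc, mul_assoc, ← mul_assoc r, ← cj_def] at this
  exfalso
  have c4 : Nat.card ↥(𝐙 ⊓ 𝐂(P)) = 4 := by
    have h1 := Transfer.card_modEq_card_inf_centralizer hP.pgroup (hP.le.trans nZ)
    obtain ⟨h2, h3⟩ := fx P hP.le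
    exact a6_n3 (k.cardZ ▸ h1) h2 h3 ((card_le_of_le hF).trans (k.al.W8 h hr r' r2))
  have zF : zpowers z ≤ 𝐙 ⊓ 𝐂(P) := zpowers_le.2 ⟨k.zZ, le_cent1_iff.1 (hP.le.trans Nz)⟩
  have iF : (zpowers z).relIndex (𝐙 ⊓ 𝐂(P)) ∣ 2 := by
    have := BG.card_mul_relIndex zF
    rw [cz, c4] at this
    exact ⟨1, by omega⟩
  obtain ⟨e, he, e'⟩ := SetLike.not_le_iff_exists.1 fun l : 𝐙 ⊓ 𝐂(P) ≤ zpowers z => by
    have := card_le_of_le l
    omega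
  have rF : r ∈ 𝐍(𝐙 ⊓ 𝐂(P)) := F1 ▸ nrm_inf (nZ rN) (nrm_cent rL)
  have cr : ∀ x, ⁅x, r⁆ = x * cj r x⁻¹ := fun x => by rw [cj_def, cdef]; group
  have rz : r ∈ 𝐍(zpowers z) := cent_le_norm _ (cent_zpowers z ▸ Nz rN)
  have dF : ∀ f ∈ 𝐙 ⊓ 𝐂(P), ⁅f, r⁆ ∈ zpowers z := fun f hf => by
    rw [cr]
    by_cases e1 : f ∈ zpowers z
    · exact mul_mem e1 (cj_mem rz (inv_mem e1))
    · exact a6_ix iF hf (cj_mem rF (inv_mem hf)) e1 (by rwa [cj_mem_iff rz, inv_mem_iff])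
  have dp := coprime_abelian_cent_dprod (hP.le.trans nZ) (coprime_pgroups hP.pgroup (pg_sq eZ) (by norm_num))
    (abelian_iff.2 (ZM.trans k.cenZ))
  obtain ⟨x, hx, ex⟩ := k.WZ h hr r' r2 (hF he) he.1
  have KZ : ⁅𝐙, P⁆ ≤ 𝐙 := comm_le_left (hP.le.trans nZ)
  obtain ⟨f, hf, c, hc, rfl⟩ := (mem_sup_right_norm (norm_of_cent (cent_symm dp.cent))).1
    (show x ∈ 𝐙 ⊓ 𝐂(P) ⊔ ⁅𝐙, P⁆ by rwa [sup_comm, dp.sup])
  have c1 : ⁅c, r⁆ ∈ ⁅𝐙, P⁆ := by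
    rw [cr]
    refine mul_mem hc (K1 (cj_mem (norm_comm (norm1 (nZ rN)) (norm1 rL) (mem_zpowers r)) (inv_mem ?_)))
    exact commutator_mono le_rfl le_sup_right hc
  rw [a6_cm (mem_cent.1 (k.cenZ (ZM (KZ c1))) f hf.1)] at ex
  have c2 : ⁅c, r⁆ ∈ 𝐙 ⊓ 𝐂(P) := by
    rcases ex with ex | ex
    · exact (mul_mem_cancel_right (zF (dF f hf))).1 (ex ▸ he)
    · exact (mul_mem_cancel_right (zF (dF f hf))).1 ((mul_mem_cancel_right (zF (mem_zpowers z))).1 (ex ▸ he))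
  have c3 : ⁅c, r⁆ = 1 := mem_bot.1 (dp.inf ▸ mem_inf.2 ⟨c1, c2⟩)
  rw [c3, one_mul] at ex
  rcases ex with ex | ex <;> refine e' (ex ▸ ?_)
  exacts [dF f hf, mul_mem (dF f hf) (mem_zpowers z)]

omit hr r' r2 in
/-- `exr`, `exy`, `thom` with `C = M`, `wc` -/
theorem false : False := by
  obtain ⟨r, hr, r', r2⟩ := k.exr h
  obtain ⟨y, hy, y', hg⟩ := k.exy h hr r' r2
  obtain ⟨g, g1, -, g3⟩ := h.thom (k.al.le hy.1.1) (k.el y hy.1) y' (h.pg.to_le k.al.le)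
    (fun m hm => mem_cent1.2 (mem_cent.1 (k.cenZ hm) y hy).symm)
  exact g3 (hg g (k.wc h hr r' r2 g1))

end Aa

end Cfsg.Lib.TA
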